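import Mathlib.Topology.Spectral.ConstructibleTopology
/-!
Open quotients of spectral spaces.
-/

open Topology TopologicalSpace

namespace Groth.Agent.Topo

variable {U X : Type*} [TopologicalSpace U] [TopologicalSpace X] {f : U → X}

/-- An open quotient of a spectral space with compact saturations of compact opens and with
generalizations in fibre closures is spectral. -/
theorem spectralSpace_of_open_surjective [SpectralSpace U] (hc : Continuous f) (ho : IsOpenMap f)
    (hs : Function.Surjective f)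
    (hK : ∀ K : Set U, IsOpen K → IsCompact K → IsCompact (f ⁻¹' (f '' K)))
    (hfib : ∀ (x : X) (u : U), u ∈ closure (f ⁻¹' {x}) → ∃ e, f e = x ∧ e ⤳ u) :
    SpectralSpace X := by
  classical
  haveI : CompactSpace X := hs.compactSpace hc
  have hb := PrespectralSpace.isTopologicalBasis (X := U)
  have hsub : ∀ (x : X) (O : Set X), IsOpen O → x ∈ O →
      ∃ K : Set U, IsOpen K ∧ IsCompact K ∧ x ∈ f '' K ∧ f '' K ⊆ O := by
    intro x O hO hx
    obtain ⟨u, rfl⟩ := hs x
    obtain ⟨K, ⟨hK1, hK2⟩, huK, hKO⟩ := hb.exists_subset_of_mem_open (a := u) hx (hO.preimage hc)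
    exact ⟨K, hK1, hK2, ⟨u, huK, rfl⟩, by rintro _ ⟨w, hw, rfl⟩; exact hKO hw⟩
  haveI : PrespectralSpace X := ⟨isTopologicalBasis_of_isOpen_of_nhds (fun O hO => hO.1) fun x O hx hO => by
    obtain ⟨K, hK1, hK2, hxK, hKO⟩ := hsub x O hO hx
    exact ⟨f '' K, ⟨ho K hK1, hK2.image hc⟩, hxK, hKO⟩⟩
  have hpre : ∀ O : Set X, IsOpen O → IsCompact O → IsCompact (f ⁻¹' O) := by
    intro O hO hOc
    choose K hK1 hK2 hxK hKO using fun x : O => hsub x.1 O hO x.2
    obtain ⟨t, ht⟩ := hOc.elim_finite_subcover (fun x : O => f '' K x) (fun x => ho _ (hK1 x))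
      (fun x hx => Set.mem_iUnion.2 ⟨⟨x, hx⟩, hxK ⟨x, hx⟩⟩)
    rw [show O = ⋃ x ∈ t, f '' K x from Set.Subset.antisymm ht (Set.iUnion₂_subset fun x _ => hKO x),
      Set.preimage_iUnion₂]
    exact t.isCompact_biUnion fun x _ => hK _ (hK1 x) (hK2 x)
  haveI : QuasiSeparatedSpace X := ⟨fun O O' hO hOc hO' hOc' => by
    have h := (QuasiSeparatedSpace.inter_isCompact _ _ (hO.preimage hc) (hpre O hO hOc) (hO'.preimage hc)
      (hpre O' hO' hOc')).image hc
    rwa [← Set.preimage_inter, Set.image_preimage_eq _ hs] at h⟩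
  haveI : T0Space X := ⟨fun x x' hxx' => by
    have hcl : ∀ y, f ⁻¹' closure {y} = closure (f ⁻¹' {y}) := fun y =>
      ho.preimage_closure_eq_closure_preimage hc _
    have he : closure ({x} : Set X) = closure {x'} := inseparable_iff_closure_eq.1 hxx'
    let C := f ⁻¹' closure ({x} : Set X)
    have hCcl : IsClosed C := isClosed_closure.preimage hc
    obtain ⟨u₀, hu₀⟩ := hs x
    have hu₀C : u₀ ∈ C := by
      change f u₀ ∈ closure {x}
      rw [hu₀]
      exact subset_closure rfl
    let c : Set C := irreducibleComponent (⟨u₀, hu₀C⟩ : C)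
    let Z : Set U := Subtype.val '' c
    have hZirr : IsIrreducible Z := isIrreducible_irreducibleComponent.image _ continuous_subtype_val.continuousOn
    have hZcl : IsClosed Z := hCcl.isClosedEmbedding_subtypeVal.isClosedMap _ isClosed_irreducibleComponent
    obtain ⟨η, hη⟩ := QuasiSober.sober hZirr hZcl
    have hηC : η ∈ C := by
      obtain ⟨w, -, hw⟩ := hη.mem
      exact hw ▸ w.2
    have hmax : ∀ e ∈ C, e ⤳ η → e = η := by
      intro e heC heη
      refine (heη.antisymm ?_).eq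
      have hZe : Z ⊆ closure {e} :=
        hη.def ▸ closure_minimal (Set.singleton_subset_iff.2 heη.mem_closure) isClosed_closure
      let D : Set C := closure {⟨e, heC⟩}
      have hcD : c ⊆ D := fun w hw => by
        change w ∈ closure _
        rw [closure_subtype, Set.image_singleton]
        exact hZe ⟨w, hw, rfl⟩
      have : D ⊆ c :=
        (irreducibleComponent_property (⟨u₀, hu₀C⟩ : C)).2.2 (u := D) isIrreducible_singleton.closure.2 hcD |>.le
      have heZ : e ∈ Z := ⟨⟨e, heC⟩, this (subset_closure rfl), rfl⟩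
      exact specializes_iff_mem_closure.2 (by rw [hη.def]; exact heZ)
    obtain ⟨e₁, he₁, hs₁⟩ := hfib x η (hcl x ▸ hηC)
    obtain ⟨e₂, he₂, hs₂⟩ := hfib x' η (hcl x' ▸ (he ▸ hηC : η ∈ f ⁻¹' closure {x'}))
    have h₁ : e₁ = η := hmax e₁ (show f e₁ ∈ closure {x} by rw [he₁]; exact subset_closure rfl) hs₁
    have h₂ : e₂ = η := hmax e₂ (show f e₂ ∈ closure {x} by rw [he₂, he]; exact subset_closure rfl) hs₂
    rw [← he₁, ← he₂, h₁, h₂]⟩
  haveI : QuasiSober X := ⟨fun {Z} hZ hZc => by
    let W : Set (Set X) := {O | IsOpen O ∧ IsCompact O ∧ (Z ∩ O).Nonempty}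
    let g : WithConstructibleTopology U → X := fun w => f (WithTopology.ofTopology w)
    have hclO : ∀ O ∈ W, IsClosed (g ⁻¹' O) := fun O hO => by
      refine isOpen_compl_iff.1 ((WithConstructibleTopology.isOpen_iff).2 ?_)
      exact IsCompact.isOpen_constructibleTopology_of_isClosed (s := (f ⁻¹' O)ᶜ)
        (by rw [compl_compl]; exact hpre O hO.1 hO.2.1) (hO.1.preimage hc).isClosed_compl
    have hclZ : IsClosed (g ⁻¹' Z) := by
      obtain ⟨𝒦, h𝒦, e⟩ := hb.open_eq_sUnion (hZc.preimage hc).isOpen_compl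
      rw [← isOpen_compl_iff]
      have : (g ⁻¹' Z)ᶜ = ⋃ K ∈ 𝒦, (WithTopology.ofTopology ⁻¹' K : Set (WithConstructibleTopology U)) := by
        ext w
        simpa using Set.ext_iff.1 e (WithTopology.ofTopology w)
      rw [this]
      exact isOpen_biUnion fun K hK => (WithConstructibleTopology.isOpen_iff).2
        (IsCompact.isOpen_constructibleTopology_of_isOpen (s := K) (h𝒦 hK).2 (h𝒦 hK).1)
    obtain ⟨w, hηZ, hη'⟩ : (g ⁻¹' Z ∩ ⋂ O : W, g ⁻¹' O.1).Nonempty := by
      refine hclZ.isCompact.inter_iInter_nonempty _ (fun O => hclO O.1 O.2) fun t => ?_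
      obtain ⟨u, hu⟩ : (Z ∩ ⋂ O ∈ t, (O : W).1).Nonempty := by
        have := isIrreducible_iff_sInter.1 hZ (t.image Subtype.val) (by simp; exact fun a b _ => b.1) (by simp; exact fun a b _ => b.2.2)
        simpa using this
      obtain ⟨v, rfl⟩ := hs u
      exact ⟨WithTopology.toTopology _ v, hu.1, by simpa [g] using hu.2⟩
    let η := WithTopology.ofTopology w
    have hη : η ∈ ⋂ O : W, f ⁻¹' O.1 := Set.mem_iInter.2 fun O => Set.mem_iInter.1 hη' O
    refine ⟨f η, ?_⟩
    refine Set.Subset.antisymm (hZc.closure_subset_iff.2 (Set.singleton_subset_iff.2 hηZ)) fun z hz => ?_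
    refine mem_closure_iff.2 fun O hO hzO => ⟨f η, ?_, rfl⟩
    obtain ⟨K, hK1, hK2, hzK, hKO⟩ := hsub z O hO hzO
    exact hKO (Set.mem_iInter.1 hη ⟨f '' K, ho K hK1, hK2.image hc, z, hz, hzK⟩)⟩
  exact { }

end Groth.Agent.Topo
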